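import Cfsg.Agent.H389.QU.Emb
import Cfsg.Agent.H963.QA.RowPsu
import Cfsg.Agent.H987.QA.TEight
import Cfsg.Agent.H622.QA.U45
import Cfsg.Agent.H309.U92.Row

/-!
# S4979, layer (A), row `PSU_n(s)` (helper389)
-/

set_option autoImplicit false

open Cfsg

namespace Cfsg.Agent.H389.QU

open Cfsg.Agent.H80.Fpf Cfsg.Agent.H152.QA Cfsg.Agent.H306.QA Cfsg.Agent.H759.QA Cfsg.Agent.H963.QA

theorem card_u63 {F : Type} [Field F] [Fintype F] (hF : Fintype.card F = 3 ^ 2) :
    Nat.card (PSU 6 F 3) = 22837472432087040 := by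
  have h1 := card_psu hF (n := 6) (by norm_num)
  have h2 : ∏ i ∈ Finset.range (6 - 1), Cfsg.Agent.H948.UProd.ph 3 (i + 1) = 8 * 28 * 80 * 244 * 728 := by
    decide
  rw [h2] at h1
  norm_num at h1
  omega

theorem row_u63 {F : Type} [Field F] [Fintype F] (hF : Fintype.card F = 3 ^ 2) : NoSit (PSU 6 F 3) := by
  classical
  intro p q L V _ _ _ _ _ π N φ hπ h
  have := simple (n := 6) hF (by norm_num) (by norm_num)
  have hcard := card_u63 hF
  have hmul : MultDvd (PSU 6 F 3) 2 := by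
    have h1 := multDvd' (n := 6) hF (by norm_num) (by norm_num) (by norm_num) (by norm_num) (by norm_num)
    have h2 : Nat.gcd 6 (3 + 1) = 2 := by norm_num
    rwa [h2] at h1
  have hpS : p ∣ Nat.card (PSU 6 F 3) := Cfsg.Agent.H306.QA.p_dvd h hπ
  have hqS : ¬ q ∣ Nat.card (PSU 6 F 3) := Cfsg.Agent.H306.QA.q_not_dvd h hπ
  rw [hcard] at hpS hqS
  have hq11 : 11 ≤ q := by
    by_contra hcon
    have h2 := h.hq.two_le
    have hq := h.hq
    interval_cases q <;> revert hq hqS <;> norm_num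
  have hB : MinDeg (PSU 6 F 3) 182 := by
    have := minDeg_even (n := 6) hF (by norm_num) (by decide) (by norm_num) (by norm_num) (by norm_num)
    norm_num at this
    exact this
  obtain ⟨_, hP⟩ := h.exists_pSit_prime hπ (by norm_num) hmul
  rcases Nat.lt_or_ge p 14 with hp14 | hp14
  · have hp : p = 3 ∨ p = 5 ∨ p = 7 ∨ p = 13 := by
      have h2 := h.hp.two_le
      have hp := h.hp
      have hodd := h.odd
      interval_cases p <;> revert hp hpS hodd <;> norm_num
    rcases hp with rfl | rfl | rfl | rfl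
    · -- `p = 3`
      obtain ⟨m, hm, hpm, hle⟩ := Cfsg.Agent.H306.QA.Sit.cr h hπ hB
      rw [hcard] at hpm hle
      set A := ordCompl[3] 22837472432087040 with hA
      have h1 : A ≤ 1591582720 := by
        have h2 : 15 ≤ (22837472432087040 : ℕ).factorization 3 :=
          (Nat.Prime.pow_dvd_iff_le_factorization Nat.prime_three (by norm_num)).1 (by norm_num)
        calc A ≤ 22837472432087040 / 3 ^ 15 := Nat.div_le_div_left (Nat.pow_le_pow_right (by norm_num) h2) (by norm_num)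
          _ = 1591582720 := by norm_num
      have h2 : m - 1 < 16 := by
        by_contra hcon
        have h3 : 4 ^ 16 ≤ (3 + 1) ^ (m - 1) := Nat.pow_le_pow_right (by norm_num) (by omega)
        have h4 := (h3.trans hpm).trans h1
        norm_num at h4
      have h3 : 11 ^ 182 ≤ 1591582720 ^ 16 :=
        calc 11 ^ 182 ≤ q ^ 182 := Nat.pow_le_pow_left hq11 _
          _ ≤ A ^ m := hle
          _ ≤ 1591582720 ^ m := Nat.pow_le_pow_left h1 _
          _ ≤ _ := Nat.pow_le_pow_right (by norm_num) (by omega)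
      norm_num at h3
    · obtain ⟨G, _, _, _, ψ, hψ, -, -, hG⟩ := h.exists_pSit' hπ
      exact u63_five hF hG hψ hq11
    · have h1 := PSit.wm hF (by norm_num) hP (k := 3) (M := 91) (by norm_num) (by norm_num) (by norm_num)
        (by norm_num) (by norm_num) (by norm_num)
      rw [hcard] at h1
      have h2 : 11 ^ ((7 - 1) * (91 / 7)) ≤ q ^ ((7 - 1) * (91 / 7)) := Nat.pow_le_pow_left hq11 _
      have h3 := h2.trans h1
      norm_num at h3
    · have h1 := PSit.wm hF (by norm_num) hP (k := 3) (M := 91) (by norm_num) (by norm_num) (by norm_num)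
        (by norm_num) (by norm_num) (by norm_num)
      rw [hcard] at h1
      have h2 : 11 ^ ((13 - 1) * (91 / 13)) ≤ q ^ ((13 - 1) * (91 / 13)) := Nat.pow_le_pow_left hq11 _
      have h3 := h2.trans h1
      norm_num at h3
  · have hp : p = 61 := by
      have h0 : p ∣ 2 ^ 13 * (3 ^ 15 * (5 ^ 1 * (7 ^ 2 * (13 ^ 1 * 61)))) := by
        norm_num
        exact hpS
      have hle : ∀ {a b : ℕ}, 0 < a → a < 14 → ¬ p ∣ a ^ b := by
        intro a b ha hab hd
        have := Nat.le_of_dvd ha (h.hp.dvd_of_dvd_pow hd)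
        omega
      have h1 := ((Nat.Prime.dvd_mul h.hp).1 h0).resolve_left (hle (by norm_num) (by norm_num))
      have h2 := ((Nat.Prime.dvd_mul h.hp).1 h1).resolve_left (hle (by norm_num) (by norm_num))
      have h3 := ((Nat.Prime.dvd_mul h.hp).1 h2).resolve_left (hle (by norm_num) (by norm_num))
      have h4 := ((Nat.Prime.dvd_mul h.hp).1 h3).resolve_left (hle (by norm_num) (by norm_num))
      have h5 := ((Nat.Prime.dvd_mul h.hp).1 h4).resolve_left (hle (by norm_num) (by norm_num))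
      exact (Nat.prime_dvd_prime_iff_eq h.hp (by norm_num)).1 h5
    subst hp
    exact Sit.false_of_cr h hπ hB (p0 := 61) (q0 := 11) (A := 374384793968640) (k := 9) le_rfl hq11
      (by rw [hcard]) (by norm_num) (by norm_num) (by norm_num)

theorem card_u35 {F : Type} [Field F] [Fintype F] (hF : Fintype.card F = 5 ^ 2) :
    Nat.card (PSU 3 F 5) = 126000 := by
  have h1 := card_psu hF (n := 3) (by norm_num)
  have h2 : ∏ i ∈ Finset.range (3 - 1), Cfsg.Agent.H948.UProd.ph 5 (i + 1) = 24 * 126 := by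
    decide
  rw [h2] at h1
  norm_num at h1
  omega

theorem row_u35 {F : Type} [Field F] [Fintype F] (hF : Fintype.card F = 5 ^ 2) : NoSit (PSU 3 F 5) := by
  classical
  intro p q L V _ _ _ _ _ π N φ hπ h
  have := simple (n := 3) hF (by norm_num) (by norm_num)
  have hcard := card_u35 hF
  have hmul : MultDvd (PSU 3 F 5) 3 := by
    have h1 := multDvd' (n := 3) hF (by norm_num) (by norm_num) (by norm_num) (by norm_num) (by norm_num)
    have h2 : Nat.gcd 3 (5 + 1) = 3 := by norm_num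
    rwa [h2] at h1
  obtain ⟨r, hr, hrp, hr3⟩ := Cfsg.Agent.H759.QA.Sit.exists_prime_dvd h hπ hmul
  have hp3 : p ≠ 3 := by
    rintro rfl
    exact hrp ((Nat.prime_dvd_prime_iff_eq hr h.hp).1 hr3)
  have hpS : p ∣ Nat.card (PSU 3 F 5) := Cfsg.Agent.H306.QA.p_dvd h hπ
  have hqS : ¬ q ∣ Nat.card (PSU 3 F 5) := Cfsg.Agent.H306.QA.q_not_dvd h hπ
  rw [hcard] at hpS hqS
  have hq11 : 11 ≤ q := by
    by_contra hcon
    have h2 := h.hq.two_le
    have hq := h.hq
    interval_cases q <;> revert hq hqS <;> norm_num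
  have hB : MinDeg (PSU 3 F 5) 20 := by
    have := minDeg_odd (n := 3) hF (by norm_num) (by decide) (by norm_num)
    norm_num at this
    exact this
  have hp : p = 5 ∨ p = 7 := by
    have h0 : p ∣ 2 ^ 4 * (3 ^ 2 * (5 ^ 3 * 7 ^ 1)) := by
      norm_num
      exact hpS
    have hle : ∀ {a b : ℕ}, a.Prime → p ≠ a → ¬ p ∣ a ^ b := by
      intro a b ha hab hd
      exact hab ((Nat.prime_dvd_prime_iff_eq h.hp ha).1 (h.hp.dvd_of_dvd_pow hd))
    by_contra hcon
    push Not at hcon
    have h1 := ((Nat.Prime.dvd_mul h.hp).1 h0).resolve_left (hle (by norm_num) h.odd)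
    have h2 := ((Nat.Prime.dvd_mul h.hp).1 h1).resolve_left (hle (by norm_num) hp3)
    have h3 := ((Nat.Prime.dvd_mul h.hp).1 h2).resolve_left (hle (by norm_num) hcon.1)
    exact hle (by norm_num) hcon.2 h3
  rcases hp with rfl | rfl
  · -- `p = 5`
    obtain ⟨m, hm, hpm, hle⟩ := Cfsg.Agent.H306.QA.Sit.cr h hπ hB
    rw [hcard] at hpm hle
    set A := ordCompl[5] 126000 with hA
    have h1 : A ≤ 1008 := by
      have h2 : 3 ≤ (126000 : ℕ).factorization 5 :=
        (Nat.Prime.pow_dvd_iff_le_factorization Nat.prime_five (by norm_num)).1 (by norm_num)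
      calc A ≤ 126000 / 5 ^ 3 := Nat.div_le_div_left (Nat.pow_le_pow_right (by norm_num) h2) (by norm_num)
        _ = 1008 := by norm_num
    have h2 : m - 1 < 4 := by
      by_contra hcon
      have h3 : 6 ^ 4 ≤ (5 + 1) ^ (m - 1) := Nat.pow_le_pow_right (by norm_num) (by omega)
      have h4 := (h3.trans hpm).trans h1
      norm_num at h4
    have h3 : 11 ^ 20 ≤ 1008 ^ 4 :=
      calc 11 ^ 20 ≤ q ^ 20 := Nat.pow_le_pow_left hq11 _
        _ ≤ A ^ m := hle
        _ ≤ 1008 ^ m := Nat.pow_le_pow_left h1 _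
        _ ≤ _ := Nat.pow_le_pow_right (by norm_num) (by omega)
    norm_num at h3
  · -- `p = 7`
    obtain ⟨x, hx, hC⟩ := Cfsg.Agent.H700.FpfPsu.cent_n (n := 3) (by norm_num) hF (r := 7) (by norm_num)
      (orderOf_neg_eq Nat.prime_three (by decide) (by decide)) (by decide)
    obtain ⟨G, _, _, _, ψ, hψ, -, -, hG⟩ := h.exists_pSit' hπ
    have h1 := hG.ch_elt hψ (c := 5) (minDeg_of_cover hψ hB) x hx (by omega)
    have h2 := h1.trans (Nat.le_of_dvd Nat.card_pos (Subgroup.index_dvd_card _))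
    rw [hcard] at h2
    have h3 : 11 ^ 13 ≤ q ^ 13 := Nat.pow_le_pow_left hq11 _
    norm_num at h2 h3
    omega

/-- proper subgroups have index `≥ B + 1` -/
theorem index_ge {S : Type} [Group S] [Finite S] {B : ℕ} (hB : Cfsg.Agent.H122.MinDeg S B)
    (hS : ∀ H : Subgroup S, H ≠ ⊤ → ∃ g : S, ∃ x : S ⧸ H, g • x ≠ x) (H : Subgroup S) (hH : H ≠ ⊤) : B + 1 ≤ H.index := by
  classical
  have hft : Fintype (S ⧸ H) := Fintype.ofFinite _
  let ρ : Representation ℂ S ((S ⧸ H) → ℂ) := {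
    toFun := fun g => LinearMap.funLeft ℂ ℂ (fun x => g⁻¹ • x)
    map_one' := by
      refine LinearMap.ext fun f => funext fun x => ?_
      rw [LinearMap.funLeft_apply, inv_one, one_smul]
      rfl
    map_mul' := fun g k => by
      refine LinearMap.ext fun f => funext fun x => ?_
      rw [Module.End.mul_apply, LinearMap.funLeft_apply, LinearMap.funLeft_apply, LinearMap.funLeft_apply, mul_inv_rev,
        mul_smul] }
  have hρ : ∀ g f x, ρ g f x = f (g⁻¹ • x) := fun g f x => rfl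
  have hfr : Module.finrank ℂ ((S ⧸ H) → ℂ) = H.index := by
    rw [Module.finrank_fintype_fun_eq_card, Subgroup.index_eq_card, Nat.card_eq_fintype_card]
  have hne : ∃ g, ρ g ≠ 1 := by
    obtain ⟨g, x, hgx⟩ := hS H hH
    refine ⟨g, fun h1 => hgx ?_⟩
    have h2 : ρ g (Pi.single x 1) (g • x) = (Pi.single x 1 : (S ⧸ H) → ℂ) (g • x) := by rw [h1]; rfl
    rw [hρ, inv_smul_smul, Pi.single_eq_same] at h2
    by_contra hcon
    rw [Pi.single_eq_of_ne hcon] at h2
    exact one_ne_zero h2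
  obtain ⟨d', τ, hτ, hτ1, h5⟩ := exists_irr_ne_fix _ _ ρ hfr hne
  have h6 := h5 ⊤
  have h7 : Cfsg.Agent.H245.QA.fixR τ ⊤ = ⊥ := by
    let N : Subrepresentation τ := ⟨Cfsg.Agent.H245.QA.fixR τ ⊤, fun g v hv => by
      have h1 : τ g v = v := hv g (Subgroup.mem_top g)
      rw [h1]
      exact hv⟩
    rcases hτ.eq_bot_or_eq_top N with h | h
    · exact congrArg Subrepresentation.toSubmodule h
    · exfalso
      obtain ⟨g, hg⟩ := hτ1
      apply hg
      refine LinearMap.ext fun v => ?_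
      have h8 : Cfsg.Agent.H245.QA.fixR τ ⊤ = ⊤ := congrArg Subrepresentation.toSubmodule h
      have h9 : v ∈ Cfsg.Agent.H245.QA.fixR τ ⊤ := by rw [h8]; exact Submodule.mem_top
      exact h9 g (Subgroup.mem_top g)
  have h8 : 0 < Module.finrank ℂ (Cfsg.Agent.H245.QA.fixR ρ ⊤) := by
    rw [Nat.pos_iff_ne_zero]
    intro h0
    rw [Submodule.finrank_eq_zero] at h0
    have h9 : (fun _ : S ⧸ H => (1 : ℂ)) ∈ Cfsg.Agent.H245.QA.fixR ρ ⊤ := by
      intro g _
      rfl
    rw [h0, Submodule.mem_bot] at h9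
    have h10 := congrFun h9 ((1 : S) : S ⧸ H)
    exact one_ne_zero h10
  have h9 := hB (Fin d' → ℂ) τ hτ1
  rw [Module.finrank_fin_fun] at h9
  rw [h7, finrank_bot] at h6
  omega

theorem card_u38 {F : Type} [Field F] [Fintype F] (hF : Fintype.card F = 8 ^ 2) :
    Nat.card (PSU 3 F 8) = 5515776 := by
  have h1 := card_psu hF (n := 3) (by norm_num)
  have h2 : ∏ i ∈ Finset.range (3 - 1), Cfsg.Agent.H948.UProd.ph 8 (i + 1) = 63 * 513 := by
    decide
  rw [h2] at h1
  norm_num at h1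
  omega

theorem row_u38 {F : Type} [Field F] [Fintype F] (hF : Fintype.card F = 8 ^ 2) : NoSit (PSU 3 F 8) := by
  classical
  intro p q L V _ _ _ _ _ π N φ hπ h
  have := simple (n := 3) hF (by norm_num) (by norm_num)
  have hcard := card_u38 hF
  have hmul : MultDvd (PSU 3 F 8) 3 := by
    have h1 := multDvd' (n := 3) hF (by norm_num) (by norm_num) (by norm_num) (by norm_num) (by norm_num)
    have h2 : Nat.gcd 3 (8 + 1) = 3 := by norm_num
    rwa [h2] at h1
  obtain ⟨r, hr, hrp, hr3⟩ := Cfsg.Agent.H759.QA.Sit.exists_prime_dvd h hπ hmul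
  have hp3 : p ≠ 3 := by
    rintro rfl
    exact hrp ((Nat.prime_dvd_prime_iff_eq hr h.hp).1 hr3)
  have hpS : p ∣ Nat.card (PSU 3 F 8) := Cfsg.Agent.H306.QA.p_dvd h hπ
  have hqS : ¬ q ∣ Nat.card (PSU 3 F 8) := Cfsg.Agent.H306.QA.q_not_dvd h hπ
  rw [hcard] at hpS hqS
  have hq5 : 5 ≤ q := by
    by_contra hcon
    have h2 := h.hq.two_le
    have hq := h.hq
    interval_cases q <;> revert hq hqS <;> norm_num
  have hB : MinDeg (PSU 3 F 8) 56 := by
    have := minDeg_odd (n := 3) hF (by norm_num) (by decide) (by norm_num)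
    norm_num at this
    exact this
  have hp : p = 7 ∨ p = 19 := by
    have h0 : p ∣ 2 ^ 9 * (3 ^ 4 * (7 ^ 1 * 19 ^ 1)) := by
      norm_num
      exact hpS
    have hle : ∀ {a b : ℕ}, a.Prime → p ≠ a → ¬ p ∣ a ^ b := by
      intro a b ha hab hd
      exact hab ((Nat.prime_dvd_prime_iff_eq h.hp ha).1 (h.hp.dvd_of_dvd_pow hd))
    by_contra hcon
    push Not at hcon
    have h1 := ((Nat.Prime.dvd_mul h.hp).1 h0).resolve_left (hle (by norm_num) h.odd)
    have h2 := ((Nat.Prime.dvd_mul h.hp).1 h1).resolve_left (hle (by norm_num) hp3)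
    have h3 := ((Nat.Prime.dvd_mul h.hp).1 h2).resolve_left (hle (by norm_num) hcon.1)
    exact hle (by norm_num) hcon.2 h3
  rcases hp with rfl | rfl
  · -- `p = 7`
    obtain ⟨G, _, _, _, ψ, hψ, -, -, hG⟩ := h.exists_pSit' hπ
    have hBG := minDeg_of_cover hψ hB
    have hBS : Cfsg.Agent.H122.MinDeg (PSU 3 F 8) 56 := hBG.of_surjective ψ hψ.surj
    have hD : ∀ H : Subgroup (PSU 3 F 8), H ≠ ⊤ → 57 ≤ H.index := index_ge hBS (by
      intro H hH
      obtain ⟨g, hg⟩ : ∃ g, g ∉ H := by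
        by_contra hcon
        push Not at hcon
        exact hH (eq_top_iff.2 fun x _ => hcon x)
      refine ⟨g, ((1 : PSU 3 F 8) : PSU 3 F 8 ⧸ H), fun h1 => hg ?_⟩
      have h2 : ((g : PSU 3 F 8) : PSU 3 F 8 ⧸ H) = ((1 : PSU 3 F 8) : PSU 3 F 8 ⧸ H) := by
        rw [← h1]
        show _ = ((g * 1 : PSU 3 F 8) : PSU 3 F 8 ⧸ H)
        rw [mul_one]
      have h3 := (QuotientGroup.eq.1 h2.symm)
      rwa [inv_one, one_mul] at h3)
    obtain ⟨m, c, d, hm, hmD, hVd, hc, hd⟩ := Cfsg.Agent.H987.QA.PSit.chain' hG hψ (D := 57) (by norm_num) hD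
    obtain ⟨d', hVd', hd'⟩ := hG.exists_dim hBG
    have hdd : d = d' := Nat.pow_right_injective h.hq.two_le (hVd.symm.trans hVd')
    rw [hcard] at hmD
    set A := ordCompl[7] 5515776 with hA
    have h1 : A ≤ 787968 := by
      have h2 : 1 ≤ (5515776 : ℕ).factorization 7 :=
        (Nat.Prime.pow_dvd_iff_le_factorization (by norm_num) (by norm_num)).1 (by norm_num)
      calc A ≤ 5515776 / 7 ^ 1 := Nat.div_le_div_left (Nat.pow_le_pow_right (by norm_num) h2) (by norm_num)
        _ = 787968 := by norm_num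
    have hm6 : m ≤ 6 := by
      rcases hmD with h2 | h2
      · omega
      · by_contra hcon
        have h3 : (7 + 1) ^ 5 * 57 ≤ (7 + 1) ^ (m - 2) * 57 :=
          Nat.mul_le_mul_right _ (Nat.pow_le_pow_right (by norm_num) (by omega))
        have h4 := (h3.trans h2).trans h1
        norm_num at h4
    have hc8 : c ≤ 8 := by
      by_contra hcon
      have hs : Nat.card (Sylow 7 (PSU 3 F 8)) ≤ A := by
        have hfact : Fact (Nat.Prime 7) := ⟨by norm_num⟩
        obtain ⟨P⟩ : Nonempty (Sylow 7 (PSU 3 F 8)) := inferInstance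
        have h2 : Nat.card (Sylow 7 (PSU 3 F 8)) ∣ (P : Subgroup (PSU 3 F 8)).index := P.card_dvd_index
        have h3 : (P : Subgroup (PSU 3 F 8)).index = A := by
          have h4 := (P : Subgroup (PSU 3 F 8)).card_mul_index
          rw [P.card_eq_multiplicity, hcard] at h4
          apply Nat.eq_of_mul_eq_mul_left (Nat.pow_pos (n := (Nat.factorization 5515776) 7) (show 0 < 7 by norm_num))
          rw [h4, hA, Nat.ordProj_mul_ordCompl_eq_self]
        rw [← h3]
        exact Nat.le_of_dvd (Nat.pos_of_ne_zero Subgroup.index_ne_zero_of_finite) h2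
      have h5 : 5 ^ 9 ≤ q ^ c := (Nat.pow_le_pow_left hq5 9).trans (Nat.pow_le_pow_right h.hq.pos (by omega))
      have h6 := ((h5.trans hc).trans hs).trans h1
      norm_num at h6
    have h2 : m * c ≤ 6 * 8 := Nat.mul_le_mul hm6 hc8
    omega
  · exact Sit.false_of_cr h hπ hB (p0 := 19) (q0 := 5) (A := 290304) (k := 5) le_rfl hq5
      (by rw [hcard]) (by norm_num) (by norm_num) (by norm_num)

/-- **The row `PSU_n(q)`.** -/
theorem row_psu {F : Type} [Field F] [Fintype F] (n q : ℕ) (hF : Fintype.card F = q ^ 2) (hn : 3 ≤ n)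
    (h3 : ¬ (n = 3 ∧ q = 2)) (h42 : ¬ (n = 4 ∧ q = 2)) (h43 : ¬ (n = 4 ∧ q = 3)) (h62 : ¬ (n = 6 ∧ q = 2)) :
    NoSit (PSU n F q) :=
  row_psu_of (fun h => row_u35 h) (fun h => row_u38 h) (fun h => Cfsg.Agent.H622.QA.row_u45 h)
    (fun h => Cfsg.Agent.H963.QA.row_u54 h) (fun h => row_u63 h) (fun h => Cfsg.Agent.H309.U92.row_u92 h)
    (fun h => Cfsg.Agent.H963.QA.row_u122 h) hF hn h3 h42 h43 h62

end Cfsg.Agent.H389.QU
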