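import Cfsg.Agent.H389.QU.Ev
import Cfsg.Agent.H389.QU.Gen
import Cfsg.Agent.H152.QA.PTools

/-!
# S4979, layer (A), row `PSU_n(s)`: the CH criterion with `K = SU_m(q) → G`, `m ≤ n` (helper389)

* `cent_blk` : the centralizer of `T × 1` in `SU (V × W)`;
* `ch_su` : the criterion;
* `exists_even`, `exists_odd'` : elements of `SU_m(q)` with small centralizers.
-/

set_option autoImplicit false
set_option linter.unusedSectionVars false

open Cfsg

namespace Cfsg.Agent.H389.QU

open Cfsg.Agent.H948.UBase Cfsg.Agent.H948.UProd Cfsg.Agent.H948.UTorus Cfsg.Agent.H948.UMain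
  Cfsg.Agent.LieClassical Cfsg.Agent.LieClassical.HermBasic Cfsg.Agent.LieClassical.HermSiegel
  Cfsg.Agent.H700.FpfPsu Cfsg.Agent.H80.Fpf Cfsg.Agent.H152.QA
open Cfsg.Agent.ClassicalGeometry.PSUAutBasic (pr pr_eq_one_iff pr_surjective pr_eq_iff exists_scalar_of_mem_center
  mem_center_of_act)

section blk

variable {F : Type} [Field F] [Fintype F] {q n m : ℕ} {hF : Fintype.card F = q ^ 2} {V W : Type} [AddCommGroup V]
  [Module F V] [FiniteDimensional F V] [AddCommGroup W] [Module F W] [FiniteDimensional F W]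
  {B : V →ₛₗ[cj hF] V →ₗ[F] F} {C : W →ₛₗ[cj hF] W →ₗ[F] F}

theorem toSU_inj (e : V ≃ₗ[F] (Fin n → F)) (he : ∀ x y, hermForm n F q (e x) (e y) = B y x) {S T : Module.End F V}
    {hS : Iso B S} {hT : Iso B T} {hS1 : LinearMap.det S = 1} {hT1 : LinearMap.det T = 1}
    (h : toSU e he S hS hS1 = toSU e he T hT hT1) : S = T := by
  refine LinearMap.ext fun v => ?_
  have h1 : act (toSU e he S hS hS1) (e v) = act (toSU e he T hT hT1) (e v) := by rw [h]
  rw [act_toSU, act_toSU, LinearEquiv.symm_apply_apply] at h1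
  exact e.injective h1

theorem en_suHom (e : V ≃ₗ[F] (Fin n → F)) (he : ∀ x y, hermForm n F q (e x) (e y) = B y x) (T : isoM B) :
    en e (suHom e he T) = T := by
  refine LinearMap.ext fun v => ?_
  rw [en_apply]
  show e.symm (act (toSU e he T.1 T.2.1 T.2.2) (e v)) = _
  rw [act_toSU, LinearEquiv.symm_apply_apply, LinearEquiv.symm_apply_apply]

/-- **the centralizer of `T × 1`** -/
theorem cent_blk (hC : IsHerm hF C) {w : ℕ} (hW : Module.finrank F W = w)
    (e : (V × W) ≃ₗ[F] (Fin n → F)) (he : ∀ x y, hermForm n F q (e x) (e y) = prodForm B C y x)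
    {T U : Module.End F V} (hU1 : U * (T - 1) = 1) (hU2 : (T - 1) * U = 1) {x : SU n F q}
    (hx : en e x = T.prodMap 1) :
    Nat.card (Subgroup.centralizer ({x} : Set (SU n F q))) ≤
      Nat.card {g : Module.End F V // Iso B g ∧ Commute T g} * Nat.card (SU w F q) := by
  classical
  set Cx := Subgroup.centralizer ({x} : Set (SU n F q)) with hCx
  have hcom : ∀ (c : Cx) v, en e (c : SU n F q) ((T.prodMap 1) v) = (T.prodMap 1) (en e (c : SU n F q) v) := by
    intro c v
    have h0 : (c : SU n F q) * x = x * c := ((Subgroup.mem_centralizer_iff.1 c.2) x (Set.mem_singleton _)).symm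
    have h1 : en e (c : SU n F q) * en e x = en e x * en e (c : SU n F q) := by rw [← en_mul, ← en_mul, h0]
    rw [hx] at h1
    exact LinearMap.congr_fun h1 v
  have h01 : ∀ (c : Cx) (v : V), (en e (c : SU n F q) (v, 0)).2 = 0 := by
    intro c v
    have h1 : v = T (U v) - U v := (LinearMap.congr_fun hU2 v).symm
    have h2 : ((v, 0) : V × W) = (T.prodMap (1 : Module.End F W)) (U v, 0) - (U v, 0) := by
      rw [LinearMap.prodMap_apply]
      apply Prod.ext
      · exact h1
      · simp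
    rw [h2, map_sub, hcom]
    simp
  have h10 : ∀ (c : Cx) (b : W), (en e (c : SU n F q) (0, b)).1 = 0 := by
    intro c b
    have h2 : (T.prodMap (1 : Module.End F W)) ((0, b) : V × W) = (0, b) := by
      rw [LinearMap.prodMap_apply]
      apply Prod.ext
      · simp
      · rfl
    have h3 := hcom c (0, b)
    rw [h2] at h3
    have h4 : (en e (c : SU n F q) (0, b)).1 = T (en e (c : SU n F q) (0, b)).1 := congrArg Prod.fst h3
    have h5 : U ((T - 1) (en e (c : SU n F q) (0, b)).1) = (en e (c : SU n F q) (0, b)).1 := LinearMap.congr_fun hU1 _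
    rw [← h5, LinearMap.sub_apply, ← h4, Module.End.one_apply, sub_self, map_zero]
  let g₁ : Cx → Module.End F V := fun c => (LinearMap.fst F V W) ∘ₗ (en e (c : SU n F q)) ∘ₗ (LinearMap.inl F V W)
  have hg₁ : ∀ (c : Cx) v, en e (c : SU n F q) (v, 0) = (g₁ c v, 0) := fun c v => Prod.ext rfl (h01 c v)
  let b₁ : Cx → Module.End F W := fun c => (LinearMap.snd F V W) ∘ₗ (en e (c : SU n F q)) ∘ₗ (LinearMap.inr F V W)
  have hb₁ : ∀ (c : Cx) v, en e (c : SU n F q) (0, v) = (0, b₁ c v) := fun c v => Prod.ext (h10 c v) rfl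
  have hdec : ∀ c : Cx, en e (c : SU n F q) = (g₁ c).prodMap (b₁ c) := by
    intro c
    refine LinearMap.ext fun v => ?_
    have h2 : v = (v.1, 0) + (0, v.2) := by simp
    conv_lhs => rw [h2]
    rw [map_add, hg₁, hb₁, LinearMap.prodMap_apply]
    simp
  let φ : Cx →* Module.End F V := {
    toFun := g₁
    map_one' := by
      refine LinearMap.ext fun v => ?_
      show (en e (1 : SU n F q) (v, 0)).1 = v
      rw [en_one]; rfl
    map_mul' := fun c d => by
      refine LinearMap.ext fun v => ?_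
      show (en e ((c : SU n F q) * (d : SU n F q)) (v, 0)).1 = g₁ c (g₁ d v)
      rw [en_mul, Module.End.mul_apply, hg₁ d, hg₁ c] }
  let φ' := φ.toHomUnits
  have hcard : Nat.card Cx = Nat.card φ'.ker * Nat.card φ'.range := by
    rw [← Subgroup.index_ker, Subgroup.card_mul_index]
  have hfin : Finite {g : Module.End F V // Iso B g ∧ Commute T g} := by
    have : Finite (Module.End F V) := by
      have : Finite V := Module.finite_of_finite F
      exact Finite.of_injective (fun g => (g : V → V)) DFunLike.coe_injective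
    infer_instance
  have hg : ∀ c : Cx, Iso B (g₁ c) ∧ Commute T (g₁ c) := by
    intro c
    constructor
    · intro u v
      have h1 := en_iso e he (c : SU n F q) (u, 0) (v, 0)
      rw [hg₁, hg₁, prodForm_apply, prodForm_apply] at h1
      simpa using h1
    · refine LinearMap.ext fun v => ?_
      have h1 := hcom c (v, 0)
      rw [LinearMap.prodMap_apply, map_zero, hg₁, hg₁] at h1
      exact (congrArg Prod.fst h1).symm
  have hb : ∀ c : Cx, Iso C (b₁ c) := by
    intro c u v
    have h1 := en_iso e he (c : SU n F q) (0, u) (0, v)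
    rw [hb₁, hb₁, prodForm_apply, prodForm_apply] at h1
    simpa using h1
  rw [hcard, mul_comm]
  refine Nat.mul_le_mul ?_ ?_
  · refine Nat.card_le_card_of_injective (α := φ'.range) (fun u => ⟨(u.1 : Module.End F V), by
      obtain ⟨c, hc⟩ := u.2
      rw [← hc]
      exact hg c⟩) ?_
    intro u v huv
    have h1 : (u.1 : Module.End F V) = (v.1 : Module.End F V) := congrArg Subtype.val huv
    exact Subtype.ext (Units.ext h1)
  · obtain ⟨eW, heW⟩ := exists_coord hC hW
    have hker : ∀ c : φ'.ker, g₁ c.1 = 1 := by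
      intro c
      have h1 : φ' c.1 = 1 := c.2
      exact congrArg Units.val h1
    have hdet : ∀ c : φ'.ker, LinearMap.det (b₁ c.1) = 1 := by
      intro c
      have h1 := en_det e (c.1 : SU n F q)
      rw [hdec, det_prod, hker, map_one, one_mul] at h1
      exact h1
    refine Nat.card_le_card_of_injective (α := φ'.ker) (fun c => toSU eW heW (b₁ c.1) (hb c.1) (hdet c)) ?_
    intro c d hcd
    have h1 : b₁ c.1 = b₁ d.1 := toSU_inj eW heW hcd
    apply Subtype.ext
    apply Subtype.ext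
    apply en_inj e
    rw [hdec, hdec, h1, hker, hker]

/-- the block embedding -/
noncomputable def emb (e₀ : V ≃ₗ[F] (Fin m → F)) (he₀ : ∀ x y, hermForm m F q (e₀ x) (e₀ y) = B y x)
    (e : (V × W) ≃ₗ[F] (Fin n → F)) (he : ∀ x y, hermForm n F q (e x) (e y) = prodForm B C y x) :
    SU m F q →* SU n F q where
  toFun y := suHom e he ⟨(en e₀ y).prodMap 1, iso_prod (en_iso e₀ he₀ y) Iso.one, by
    rw [det_prod, en_det, map_one, mul_one]⟩
  map_one' := by
    apply en_inj e
    rw [en_suHom]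
    show (en e₀ (1 : SU m F q)).prodMap (1 : Module.End F W) = en e (1 : SU n F q)
    rw [en_one, en_one]
    rfl
  map_mul' y z := by
    apply en_inj e
    rw [en_mul e (suHom e he _) (suHom e he _), en_suHom, en_suHom, en_suHom]
    show (en e₀ (y * z)).prodMap (1 : Module.End F W) = (en e₀ y).prodMap 1 * (en e₀ z).prodMap 1
    rw [LinearMap.prodMap_mul, en_mul, one_mul]

theorem emb_inj (e₀ : V ≃ₗ[F] (Fin m → F)) (he₀ : ∀ x y, hermForm m F q (e₀ x) (e₀ y) = B y x)
    (e : (V × W) ≃ₗ[F] (Fin n → F)) (he : ∀ x y, hermForm n F q (e x) (e y) = prodForm B C y x) :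
    Function.Injective (emb e₀ he₀ e he) := by
  intro y z h
  have h1 : en e (emb e₀ he₀ e he y) = en e (emb e₀ he₀ e he z) := by rw [h]
  have h2 : ∀ y, en e (emb e₀ he₀ e he y) = (en e₀ y).prodMap (1 : Module.End F W) := fun y => en_suHom e he _
  rw [h2, h2] at h1
  apply en_inj e₀
  refine LinearMap.ext fun v => ?_
  have h3 := LinearMap.congr_fun h1 (v, 0)
  rw [LinearMap.prodMap_apply, LinearMap.prodMap_apply] at h3
  exact congrArg Prod.fst h3

end blk

/-- an injective homomorphism `SU_m → SU_n` -/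
theorem exists_emb {F : Type} [Field F] [Fintype F] {q m n : ℕ} (hF : Fintype.card F = q ^ 2) (hmn : m ≤ n) :
    ∃ f : SU m F q →* SU n F q, Function.Injective f := by
  obtain ⟨B, hB⟩ := exists_space hF m
  obtain ⟨C, hC⟩ := exists_space hF (n - m)
  obtain ⟨e₀, he₀⟩ := exists_coord hB (n := m) (by rw [Module.finrank_fin_fun])
  obtain ⟨e, he⟩ := exists_coord (isHerm_prod hB hC) (n := n) (by
    rw [Module.finrank_prod, Module.finrank_fin_fun, Module.finrank_fin_fun]; omega)
  exact ⟨emb e₀ he₀ e he, emb_inj e₀ he₀ e he⟩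

/-- **The CH criterion with `K = SU_m(q)`.** -/
theorem ch_su {F : Type} [Field F] [Fintype F] {q m n p q' : ℕ} {G V : Type} [Group G] [Finite G] [AddCommGroup V]
    [Finite V] [DistribMulAction G V] (hF : Fintype.card F = q ^ 2) (hn : 3 ≤ n) (h3 : ¬ (n = 3 ∧ q = 2))
    (h42 : ¬ (n = 4 ∧ q = 2)) (h43 : ¬ (n = 4 ∧ q = 3)) (h62 : ¬ (n = 6 ∧ q = 2)) (hm : 3 ≤ m) (hmn : m ≤ n)
    (h3m : ¬ (m = 3 ∧ q = 2)) (h : PSit p q' G V) {ψ : G →* PSU n F q} (hψ : IsCover ψ) {B c : ℕ}
    (hB : MinDeg (PSU m F q) B) (hpq : ¬ p ∣ q + 1) (x : SU m F q) (hx : orderOf x = p)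
    (hc : Nat.card (Subgroup.centralizer ({x} : Set (SU m F q))) ≤ c ^ 2) :
    q' ^ (((p - 1) * (B - c) + (p - 1)) / p) ≤ Nat.card (PSU n F q) := by
  have hsn := simple hF hn h3
  have hsm := simple hF hm h3m
  have hfp : Fact p.Prime := ⟨h.hp⟩
  obtain ⟨f₀, hf₀⟩ := exists_emb (F := F) hF hmn
  have hker : (pr n F q).ker = Subgroup.center (SU n F q) := QuotientGroup.ker_mk' _
  obtain ⟨θ, -, hθ⟩ := exists_of_universal (Nat.gcd_pos_of_pos_left _ (by omega)).ne'
    (multDvd' hF hn h3 h42 h43 h62) (isCover_pr hF hn h3) (by rw [hker, Cfsg.Agent.S0279.result hF n hn]) hψ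
  let f : SU m F q →* G := θ.comp f₀
  have hfx : f x ≠ 1 := by
    intro h1
    have h2 : pr n F q (f₀ x) = 1 := by
      rw [← hθ]
      show ψ (f x) = 1
      rw [h1, map_one]
    have h3 : orderOf (f₀ x) = p := by rw [orderOf_injective f₀ hf₀, hx]
    have h4 := Cfsg.Agent.H700.FpfPsu.orderOf_pr hn hF h.hp hpq h3
    rw [h2, orderOf_one] at h4
    exact h.hp.one_lt.ne h4
  have hBK : Cfsg.Agent.H122.MinDeg (SU m F q) B := minDeg_of_cover (isCover_pr hF hm h3m) hB
  have hK : ¬ p ∣ Nat.card (Subgroup.center (SU m F q)) := by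
    rw [Cfsg.Agent.S0279.result hF m hm]
    exact fun hd => hpq (hd.trans (Nat.gcd_dvd_right _ _))
  have hcard : Nat.card (Subgroup.zpowers x) = p := by rw [Nat.card_zpowers, hx]
  have hP : IsPGroup p (Subgroup.zpowers x) := by
    rw [IsPGroup.iff_card]
    exact ⟨1, by rw [hcard, pow_one]⟩
  have h1 := h.ch_hom f ⟨x, hfx⟩ hBK hK (Subgroup.zpowers x) hP (c := c) (fun y hy hy1 => by
    have h2 : Subgroup.zpowers y = Subgroup.zpowers x := by
      apply Subgroup.eq_of_le_of_card_ge
      · rw [Subgroup.zpowers_le]; exact hy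
      · rw [hcard, Nat.card_zpowers]
        have h3 := Subgroup.orderOf_dvd_natCard _ hy
        rw [hcard] at h3
        rcases (Nat.dvd_prime h.hp).1 h3 with h4 | h4
        · exact absurd (orderOf_eq_one_iff.1 h4) hy1
        · exact h4.ge
    have h3 : Subgroup.centralizer ({y} : Set (SU m F q)) = Subgroup.centralizer ({x} : Set (SU m F q)) := by
      rw [← Subgroup.centralizer_closure, ← Subgroup.centralizer_closure ({x} : Set (SU m F q)),
        ← Subgroup.zpowers_eq_closure, ← Subgroup.zpowers_eq_closure, h2]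
    rw [h3]
    exact hc.trans (Nat.le_mul_of_pos_right _ Nat.card_pos))
  rw [hcard, h.index_normalizer hψ _ (hP.map f)] at h1
  exact h1.trans (Nat.le_of_dvd Nat.card_pos (Subgroup.index_dvd_card _))

/-! ### elements with small centralizers -/

/-- `SU_{j + w}(q)`, `j` odd, `-q` of order `j` modulo `r` -/
theorem exists_odd' {F : Type} [Field F] [Fintype F] {q r j w n : ℕ} (hF : Fintype.card F = q ^ 2) (hn : n = j + w)
    (hr : r.Prime) (h : orderOf (-(q : ZMod r)) = j) (hj : Odd j) (hj3 : 3 ≤ j) :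
    ∃ x : SU n F q, orderOf x = r ∧
      Nat.card (Subgroup.centralizer ({x} : Set (SU n F q))) ≤ (q ^ j + 1) * Nat.card (SU w F q) := by
  classical
  obtain ⟨hrj, hrq, hrq1⟩ := mo_ord hr h hj hj3
  obtain ⟨t⟩ := exists_tor hF (m := j) (by omega)
  have hph : ph q (j - 1) = q ^ j + 1 := by
    unfold ph
    rw [Nat.sub_add_cancel (by omega), if_pos]
    exact Nat.Odd.sub_odd hj odd_one
  obtain ⟨z, hz⟩ := exists_order t hr (by rw [hph]; exact hrj)
  have hzr : z ^ r = 1 := by rw [← hz, pow_orderOf_eq_one]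
  set T := t.ρ z with hTdef
  have hT : Iso t.B T := t.iso z
  have hTr : T ^ r = 1 := by rw [hTdef, ← map_pow, hzr, map_one]
  have hT1 : T ≠ 1 := by
    intro h1
    rw [hTdef, ← map_one t.ρ] at h1
    rw [t.inj h1, orderOf_one] at hz
    exact hr.one_lt.ne hz
  have hTd : LinearMap.det T = 1 := det_one_of_order t hr hzr hrq1
  obtain ⟨C, hC⟩ := exists_space hF w
  have hherm : IsHerm hF (prodForm t.B C) := isHerm_prod t.herm hC
  obtain ⟨e, he⟩ := exists_coord hherm (n := n) (by rw [Module.finrank_prod, t.dim, Module.finrank_fin_fun, hn])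
  have hT' : Iso (prodForm t.B C) (T.prodMap 1) := iso_prod hT Iso.one
  have hTd' : LinearMap.det (T.prodMap (1 : Module.End F (Fin w → F))) = 1 := by rw [det_prod, hTd, map_one, mul_one]
  let x : SU n F q := suHom e he ⟨T.prodMap 1, hT', hTd'⟩
  have hxe : en e x = T.prodMap 1 := en_suHom e he _
  have hxr : x ^ r = 1 := by
    apply en_inj e
    rw [en_pow, hxe, prodMap_pow, hTr, one_pow, en_one]
    rfl
  have hxo : orderOf x = r := by
    have := Fact.mk hr
    apply orderOf_eq_prime hxr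
    intro h1
    apply prodMap_one_ne (W := Fin w → F) hT1
    rw [← hxe, h1, en_one]
  obtain ⟨U, hU1, hU2⟩ := exists_sub_one hr hrq h hj hj3 hF t.dim hTr hT1
  refine ⟨x, hxo, ?_⟩
  refine (cent_blk hC (Module.finrank_fin_fun F) e he hU1 hU2 hxe).trans (Nat.mul_le_mul_right _ ?_)
  exact card_le t.herm hr hrq h hj t.dim hT hTr hT1 hrj

/-- `SU_{2k + w}(q)`, `k` prime -/
theorem exists_even {F : Type} [Field F] [Fintype F] {q r k w n : ℕ} (hF : Fintype.card F = q ^ 2)
    (hn : n = 2 * k + w) (hk : k.Prime) (hr : r.Prime) (hrk : r ∣ q ^ (2 * k) - 1)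
    (hrq : ¬ r ∣ q ^ 2 - 1) (hri : ∀ i : ℕ, ¬ r ∣ q ^ (2 * i + 1) + 1) :
    ∃ x : SU n F q, orderOf x = r ∧
      Nat.card (Subgroup.centralizer ({x} : Set (SU n F q))) ≤ (q ^ (2 * k) - 1) * Nat.card (SU w F q) := by
  classical
  obtain ⟨l, hl⟩ := CharP.exists F
  have hlp : Fact l.Prime := ⟨CharP.char_is_prime F l⟩
  have hk0 : NeZero k := ⟨hk.ne_zero⟩
  set K := FiniteField.Extension F l k with hKdef
  have hcard : Nat.card K = q ^ (2 * k) := by
    rw [hKdef, FiniteField.natCard_extension, Nat.card_eq_fintype_card, hF]; ring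
  have hrkc : Module.finrank F K = k := FiniteField.finrank_extension F l k
  have hfr := Fact.mk hr
  obtain ⟨z, hz⟩ := exists_prime_orderOf_dvd_card' (G := Kˣ) r (by rw [Nat.card_units, hcard]; exact hrk)
  have hz0 : (z : K) ≠ 0 := z.ne_zero
  have hzo : orderOf (z : K) = r := by rw [orderOf_units, hz]
  have hzr : (z : K) ^ r = 1 := by rw [← hzo, pow_orderOf_eq_one]
  have hz1 : (z : K) ≠ 1 := by
    intro h1
    rw [h1, orderOf_one] at hzo
    exact hr.one_lt.ne hzo
  have hq1 : ¬ r ∣ q + 1 := by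
    have := hri 0
    rwa [mul_zero, zero_add, pow_one] at this
  obtain ⟨C, hC⟩ := exists_space hF w
  have hherm : IsHerm hF (prodForm (parForm hF K) C) := isHerm_prod isHerm_par hC
  have hV : Module.finrank F ((K × K) × (Fin w → F)) = n := by
    rw [Module.finrank_prod, Module.finrank_prod, Module.finrank_fin_fun, hrkc]
    omega
  set T : Module.End F (K × K) := xMap F q (z : K) with hT
  have hTr : T ^ r = 1 := by
    rw [hT, xMap_pow, hzr]
    refine LinearMap.ext fun x => ?_
    rw [xMap_apply, inv_one, one_pow, one_mul, one_mul]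
    rfl
  set X : Module.End F ((K × K) × (Fin w → F)) := T.prodMap 1 with hX
  have hXiso : Iso (prodForm (parForm hF K) C) X := iso_prod (xMap_iso hz0) Iso.one
  have hXr : X ^ r = 1 := by
    rw [hX, prodMap_pow, hTr, one_pow]
    rfl
  have hXd : LinearMap.det X = 1 := by
    have h3 := det_norm hherm hXiso
    have h4 : LinearMap.det X ^ r = 1 := by rw [← map_pow, hXr, map_one]
    have h5 : orderOf (LinearMap.det X) ∣ Nat.gcd r (q + 1) :=
      Nat.dvd_gcd (orderOf_dvd_of_pow_eq_one h4) (orderOf_dvd_of_pow_eq_one h3)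
    have h6 : Nat.gcd r (q + 1) = 1 := (Nat.Prime.coprime_iff_not_dvd hr).2 hq1
    rw [h6, Nat.dvd_one, orderOf_eq_one_iff] at h5
    exact h5
  obtain ⟨e, he⟩ := exists_coord hherm (n := n) hV
  let x : SU n F q := suHom e he ⟨X, hXiso, hXd⟩
  have hxe : en e x = T.prodMap 1 := en_suHom e he _
  have hxr : x ^ r = 1 := by
    apply en_inj e
    rw [en_pow, hxe, ← hX, hXr, en_one]
  have hxo : orderOf x = r := by
    apply orderOf_eq_prime hxr
    intro h1
    apply hz1
    have h2 : en e x = 1 := by rw [h1, en_one]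
    rw [hxe] at h2
    have h3 := LinearMap.congr_fun h2 (((1 : K), (0 : K)), 0)
    rw [LinearMap.prodMap_apply, hT, xMap_apply] at h3
    have h4 : (z : K) * 1 = 1 := congrArg (fun t => t.1.1) h3
    rwa [mul_one] at h4
  -- the inverse of `T - 1`
  have hd1 : (z : K) - 1 ≠ 0 := sub_ne_zero.2 hz1
  have hd2 : (z : K)⁻¹ ^ q - 1 ≠ 0 := by
    intro h1
    have h2 : (z : K) ^ q = 1 := by
      have h3 := sub_eq_zero.1 h1
      rwa [inv_pow, inv_eq_one] at h3
    have h3 : r ∣ q := by rw [← hzo]; exact orderOf_dvd_of_pow_eq_one h2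
    have h5 : r ∣ q ^ (2 * k) := dvd_pow h3 (by have := hk.pos; omega)
    have h6 := (Nat.dvd_sub_iff_right (Nat.one_le_pow _ _ (q_pos hF)) h5).1 hrk
    exact hr.one_lt.ne' (Nat.dvd_one.1 h6)
  let U : Module.End F (K × K) :=
    (Algebra.lmul F K ((z : K) - 1)⁻¹).prodMap (Algebra.lmul F K ((z : K)⁻¹ ^ q - 1)⁻¹)
  have hUa : ∀ v : K × K, U v = (((z : K) - 1)⁻¹ * v.1, ((z : K)⁻¹ ^ q - 1)⁻¹ * v.2) := fun v => rfl
  have hTa : ∀ v : K × K, (T - 1) v = (((z : K) - 1) * v.1, ((z : K)⁻¹ ^ q - 1) * v.2) := by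
    intro v
    rw [LinearMap.sub_apply, hT, xMap_apply, Module.End.one_apply]
    apply Prod.ext
    · show (z : K) * v.1 - v.1 = _
      ring
    · show (z : K)⁻¹ ^ q * v.2 - v.2 = _
      ring
  have hU1 : U * (T - 1) = 1 := by
    refine LinearMap.ext fun v => ?_
    rw [Module.End.mul_apply, hTa, hUa, Module.End.one_apply]
    apply Prod.ext
    · exact inv_mul_cancel_left₀ hd1 _
    · exact inv_mul_cancel_left₀ hd2 _
  have hU2 : (T - 1) * U = 1 := by
    refine LinearMap.ext fun v => ?_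
    rw [Module.End.mul_apply, hTa, hUa, Module.End.one_apply]
    apply Prod.ext
    · exact mul_inv_cancel_left₀ hd1 _
    · exact mul_inv_cancel_left₀ hd2 _
  refine ⟨x, hxo, ?_⟩
  refine (cent_blk hC (Module.finrank_fin_fun F) e he hU1 hU2 hxe).trans (Nat.mul_le_mul_right _ ?_)
  rw [← hcard]
  exact card_even hk hrkc hr hrq hri hzo

/-! ### the instances -/

theorem card_SU_one {F : Type} [Field F] [Fintype F] {q : ℕ} (hF : Fintype.card F = q ^ 2) :
    Nat.card (SU 1 F q) = 1 := by
  rw [card_SU hF le_rfl]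
  norm_num

theorem orderOf_neg_eq {r j : ℕ} {q : ℕ} (hj : j.Prime) (h1 : (-(q : ZMod r)) ^ j = 1) (h2 : -(q : ZMod r) ≠ 1) :
    orderOf (-(q : ZMod r)) = j := by
  have := Fact.mk hj
  exact orderOf_eq_prime h1 h2

section inst

variable {F : Type} [Field F] [Fintype F] {q' : ℕ} {G V : Type} [Group G] [Finite G] [AddCommGroup V]
    [Finite V] [DistribMulAction G V]

/-- `PSU_6(3)`, `p = 5` -/
theorem u63_five (hF : Fintype.card F = 3 ^ 2) (h : PSit 5 q' G V) {ψ : G →* PSU 6 F 3} (hψ : IsCover ψ)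
    (hq : 11 ≤ q') : False := by
  have hri : ∀ i : ℕ, ¬ 5 ∣ 3 ^ (2 * i + 1) + 1 := by
    intro i
    have h1 : 3 ^ (2 * i + 1) % 5 = 3 ∨ 3 ^ (2 * i + 1) % 5 = 2 := by
      induction i with
      | zero => left; norm_num
      | succ i ih => rw [show 2 * (i + 1) + 1 = 2 * i + 1 + 2 by ring, pow_add]; omega
    omega
  obtain ⟨x, hx, hC⟩ := exists_even (n := 5) (w := 1) (k := 2) (r := 5) hF rfl Nat.prime_two Nat.prime_five
    (by norm_num) (by norm_num) hri
  rw [card_SU_one hF] at hC
  have hB : MinDeg (PSU 5 F 3) 60 := by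
    have := minDeg_odd (n := 5) hF (by norm_num) (by decide) (by omega)
    norm_num at this
    exact this
  have h1 := ch_su (c := 9) hF (by norm_num) (by omega) (by omega) (by omega) (by omega) (by norm_num) (by norm_num)
    (by omega) h hψ hB (by norm_num) x hx (hC.trans (by norm_num))
  have h2 := card_psu_le (n := 6) hF (by norm_num)
  have h3 : 11 ^ 41 ≤ q' ^ (((5 - 1) * (60 - 9) + (5 - 1)) / 5) := by
    norm_num
    exact Nat.pow_le_pow_left hq 41
  have h4 := h3.trans h1
  norm_num at h2 h4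
  omega

/-- `PSU_9(2)`, `p = 7` -/
theorem u92_seven (hF : Fintype.card F = 2 ^ 2) (h : PSit 7 q' G V) {ψ : G →* PSU 9 F 2} (hψ : IsCover ψ)
    (hq : 13 ≤ q') : False := by
  have hri : ∀ i : ℕ, ¬ 7 ∣ 2 ^ (2 * i + 1) + 1 := by
    intro i
    have h1 : 2 ^ (2 * i + 1) % 7 = 2 ∨ 2 ^ (2 * i + 1) % 7 = 1 ∨ 2 ^ (2 * i + 1) % 7 = 4 := by
      induction i with
      | zero => left; norm_num
      | succ i ih => rw [show 2 * (i + 1) + 1 = 2 * i + 1 + 2 by ring, pow_add]; omega
    omega
  obtain ⟨x, hx, hC⟩ := exists_even (n := 7) (w := 1) (k := 3) (r := 7) hF rfl Nat.prime_three (by norm_num)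
    (by norm_num) (by norm_num) hri
  rw [card_SU_one hF] at hC
  have hB : MinDeg (PSU 7 F 2) 42 := by
    have := minDeg_odd (n := 7) hF (by norm_num) (by decide) (by omega)
    norm_num at this
    exact this
  have h1 := ch_su (c := 8) hF (by norm_num) (by omega) (by omega) (by omega) (by omega) (by norm_num) (by norm_num)
    (by omega) h hψ hB (by norm_num) x hx (hC.trans (by norm_num))
  have h2 := card_psu_le (n := 9) hF (by norm_num)
  have h3 : 13 ^ 30 ≤ q' ^ (((7 - 1) * (42 - 8) + (7 - 1)) / 7) := by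
    norm_num
    exact Nat.pow_le_pow_left hq 30
  have h4 := h3.trans h1
  norm_num at h2 h4
  omega

/-- `PSU_9(2)`, `p = 11` -/
theorem u92_eleven (hF : Fintype.card F = 2 ^ 2) (h : PSit 11 q' G V) {ψ : G →* PSU 9 F 2} (hψ : IsCover ψ)
    (hq : 13 ≤ q') : False := by
  obtain ⟨x, hx, hC⟩ := exists_odd' (n := 7) (w := 2) (j := 5) (r := 11) hF rfl (by norm_num)
    (orderOf_neg_eq Nat.prime_five (by decide) (by decide)) (by decide) (by norm_num)
  have hSU : Nat.card (SU 2 F 2) = 6 := by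
    rw [card_SU hF (by norm_num)]
    rfl
  rw [hSU] at hC
  have hB : MinDeg (PSU 7 F 2) 42 := by
    have := minDeg_odd (n := 7) hF (by norm_num) (by decide) (by omega)
    norm_num at this
    exact this
  have h1 := ch_su (c := 15) hF (by norm_num) (by omega) (by omega) (by omega) (by omega) (by norm_num) (by norm_num)
    (by omega) h hψ hB (by norm_num) x hx (hC.trans (by norm_num))
  have h2 := card_psu_le (n := 9) hF (by norm_num)
  have h3 : 13 ^ 25 ≤ q' ^ (((11 - 1) * (42 - 15) + (11 - 1)) / 11) := by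
    norm_num
    exact Nat.pow_le_pow_left hq 25
  have h4 := h3.trans h1
  norm_num at h2 h4
  omega

/-- `PSU_9(2)`, `p = 43` -/
theorem u92_fortythree (hF : Fintype.card F = 2 ^ 2) (h : PSit 43 q' G V) {ψ : G →* PSU 9 F 2} (hψ : IsCover ψ)
    (hq : 13 ≤ q') : False := by
  obtain ⟨x, hx, hC⟩ := exists_odd' (n := 8) (w := 1) (j := 7) (r := 43) hF rfl (by norm_num)
    (orderOf_neg_eq (by norm_num) (by decide) (by decide)) (by decide) (by norm_num)
  rw [card_SU_one hF] at hC
  have hB : MinDeg (PSU 8 F 2) 85 := by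
    have := minDeg_even (n := 8) hF (by norm_num) (by decide) (by omega) (by omega) (by omega)
    norm_num at this
    exact this
  have h1 := ch_su (c := 12) hF (by norm_num) (by omega) (by omega) (by omega) (by omega) (by norm_num) (by norm_num)
    (by omega) h hψ hB (by norm_num) x hx (hC.trans (by norm_num))
  have h2 := card_psu_le (n := 9) hF (by norm_num)
  have h3 : 13 ^ 72 ≤ q' ^ (((43 - 1) * (85 - 12) + (43 - 1)) / 43) := by
    norm_num
    exact Nat.pow_le_pow_left hq 72
  have h4 := h3.trans h1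
  norm_num at h2 h4
  omega

end inst

end Cfsg.Agent.H389.QU
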